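import Groth.Agent.Lib.Helper1.WeilCI.Basic
import Groth.Agent.Lib.Helper73.GorenLCI2
import Groth.Agent.Lib.Helper94.KoszulBridge

/-!
# A regular ring modulo a regular sequence of length two is Gorenstein (S17985)
-/

set_option autoImplicit false

universe u

namespace Groth.Agent.Lib.Helper1.WeilCI

theorem gorenstein_quot {P' : Type u} [CommRing P'] [IsRegularRing P'] (a b : P')
    (hW : RingTheory.Sequence.IsWeaklyRegular P' [a, b]) :
    LocCoh.IsGorensteinRing (P' ⧸ Ideal.span {a, b}) := by
  have hP : LocCoh.IsGorensteinRing P' :=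
    Groth.Agent.Lib.Helper24.isGorensteinRing_of_isRegularRing P'
  apply Groth.Agent.Lib.Helper73.GorenLCI.isGorensteinRing_quotient_of_isKoszulRegularIdeal hP
  intro 𝔭 _
  refine ⟨1, ?_, [a, b].map (algebraMap P' (Localization.Away (1 : P'))), ?_, ?_⟩
  · exact (Ideal.ne_top_iff_one _).mp 𝔭.isPrime.ne_top
  · apply Groth.Agent.Lib.Helper10.KoszulFlat.isKoszulRegularSeq_map
    · rw [RingHom.flat_algebraMap_iff]
      exact IsLocalization.flat (Localization.Away (1 : P')) (Submonoid.powers (1 : P'))
    · exact Groth.Agent.Lib.Helper94.isKoszulRegularSeq_of_isWeaklyRegular P' _ hW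
  · rw [Ideal.map_span, Set.image_pair]
    congr 1
    ext x
    simp

/-- Transport along a ring isomorphism with a ring in another universe. -/
theorem gorenstein_quot_of_ringEquiv {P₀ : Type} {P' : Type u} [CommRing P₀] [CommRing P']
    [IsRegularRing P'] (E : P₀ ≃+* P') (a b : P₀)
    (hW : RingTheory.Sequence.IsWeaklyRegular P₀ [a, b])
    {R : Type u} [CommRing R] (F : (P₀ ⧸ Ideal.span {a, b}) ≃+* R) :
    LocCoh.IsGorensteinRing R := by
  have hW' : RingTheory.Sequence.IsWeaklyRegular P' [E a, E b] := by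
    refine (AddEquiv.isWeaklyRegular_congr (e := E.toAddEquiv) ?_).mp hW
    refine List.Forall₂.cons (fun x => ?_) (List.Forall₂.cons (fun x => ?_) List.Forall₂.nil)
    · exact map_mul E a x
    · exact map_mul E b x
  have hG := gorenstein_quot (E a) (E b) hW'
  have hIJ : Ideal.span {E a, E b} = (Ideal.span {a, b}).map (E : P₀ →+* P') := by
    rw [Ideal.map_span, Set.image_pair]; rfl
  let G : (P₀ ⧸ Ideal.span {a, b}) ≃+* (P' ⧸ Ideal.span {E a, E b}) :=
    Ideal.quotientEquiv _ _ E hIJ
  exact Groth.Agent.Lib.Helper24.isGorensteinRing_of_ringEquiv (G.symm.trans F) hG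

end Groth.Agent.Lib.Helper1.WeilCI
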