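import Mathlib

/-!
# The functional equation of a Weil polynomial (S17985)

If all complex roots of a monic integer polynomial `P` of degree `d` have absolute value `√n`,
then `X^d P(n/X) = P(0) P(X)`, i.e. `c_j n^j = c_0 c_{d-j}`.
-/

set_option autoImplicit false

open Polynomial

namespace Groth.Agent.Lib.Helper1.WeilCI

theorem funEq (Pm : ℤ[X]) (hm : Pm.Monic) (n : ℕ) (hn : 0 < n)
    (hw : ∀ z ∈ Pm.aroots ℂ, ‖z‖ = Real.sqrt (n : ℝ)) (j : ℕ) (hj : j ≤ Pm.natDegree) :
    Pm.coeff j * (n : ℤ) ^ j = Pm.coeff 0 * Pm.coeff (Pm.natDegree - j) := by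
  classical
  set d := Pm.natDegree with hd
  set f : ℂ[X] := Pm.map (algebraMap ℤ ℂ) with hf
  have hfm : f.Monic := hm.map _
  have hs : f.Splits := IsAlgClosed.splits f
  have hfd : f.natDegree = d := hm.natDegree_map _
  set R := f.roots with hR
  have hcard : Multiset.card R = d := by rw [← hfd]; exact hs.natDegree_eq_card_roots.symm
  have hcoeff : ∀ k, f.coeff k = ((Pm.coeff k : ℤ) : ℂ) := by
    intro k; rw [hf, coeff_map]; simp
  have hnpos : (0 : ℝ) < Real.sqrt (n : ℝ) := Real.sqrt_pos.mpr (by exact_mod_cast hn)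
  -- roots are nonzero and conj z = n / z
  have hz0 : ∀ z ∈ R, z ≠ 0 := by
    intro z hz h0
    have := hw z hz
    rw [h0, norm_zero] at this
    exact absurd this (ne_of_lt hnpos)
  have hconj : ∀ z ∈ R, (starRingEnd ℂ) z = (n : ℂ) / z := by
    intro z hz
    have h1 : z * (starRingEnd ℂ) z = (n : ℂ) := by
      rw [Complex.mul_conj, Complex.normSq_eq_norm_sq, hw z hz,
        Real.sq_sqrt (Nat.cast_nonneg n)]
      simp
    rw [eq_div_iff (hz0 z hz), mul_comm]
    exact h1
  have hmapconj : R.map (starRingEnd ℂ) = R := by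
    have h1 : (f.map (starRingEnd ℂ)).roots = R.map (starRingEnd ℂ) := hs.roots_map _
    have h2 : f.map (starRingEnd ℂ) = f := by
      rw [hf, Polynomial.map_map]
      congr 1
      exact RingHom.ext_int _ _
    rw [← h1, h2]
  have hmapinv : R.map (fun z => (n : ℂ) / z) = R := by
    rw [← Multiset.map_congr rfl hconj]
    exact hmapconj
  have hc0 : (R.map (fun z => -z)).prod = f.coeff 0 := by
    rw [coeff_zero_eq_eval_zero, hs.eval_eq_prod_roots_of_monic hfm]
    congr 1
    exact Multiset.map_congr rfl fun z _ => (zero_sub z).symm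
  -- the polynomial identity at nonzero points
  set G : ℂ[X] := ∑ i ∈ Finset.range (d + 1), C (f.coeff i * (n : ℂ) ^ i) * X ^ (d - i) with hG
  have heval : ∀ x : ℂ, x ≠ 0 → G.eval x = (C (f.coeff 0) * f).eval x := by
    intro x hx
    have e1 : G.eval x = x ^ d * f.eval ((n : ℂ) / x) := by
      rw [hG, eval_finsetSum, eval_eq_sum_range, hfd, Finset.mul_sum]
      refine Finset.sum_congr rfl fun i hi => ?_
      have hi' : i ≤ d := Nat.lt_succ_iff.mp (Finset.mem_range.mp hi)
      rw [eval_mul, eval_C, eval_pow, eval_X]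
      have e2 : x ^ d = x ^ (d - i) * x ^ i := by rw [← pow_add, Nat.sub_add_cancel hi']
      have hxi : x ^ i ≠ 0 := pow_ne_zero i hx
      rw [e2, div_pow]
      field_simp
    rw [e1, hs.eval_eq_prod_roots_of_monic hfm, eval_mul, eval_C,
      hs.eval_eq_prod_roots_of_monic hfm]
    have e3 : x ^ d = (R.map (fun _ => x)).prod := by
      rw [Multiset.map_const', Multiset.prod_replicate, hcard]
    rw [e3]
    calc (R.map (fun _ => x)).prod * (R.map (fun z => (n : ℂ) / x - z)).prod
        = (R.map (fun z => x * ((n : ℂ) / x - z))).prod := Multiset.prod_map_mul.symm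
      _ = (R.map (fun z => (-z) * (x - (n : ℂ) / z))).prod := by
          congr 1
          refine Multiset.map_congr rfl fun z hz => ?_
          have := hz0 z hz
          field_simp
          ring
      _ = (R.map (fun z => -z)).prod * (R.map (fun z => x - (n : ℂ) / z)).prod :=
          Multiset.prod_map_mul
      _ = (R.map (fun z => -z)).prod *
            ((R.map (fun z => (n : ℂ) / z)).map (fun w => x - w)).prod := by
          rw [Multiset.map_map]; rfl
      _ = f.coeff 0 * (R.map (fun w => x - w)).prod := by rw [hmapinv, hc0]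
  have hGeq : G = C (f.coeff 0) * f := by
    apply eq_of_infinite_eval_eq
    refine Set.Infinite.mono (s := {x : ℂ | x ≠ 0}) (fun x hx => heval x hx) ?_
    exact (Set.finite_singleton (0 : ℂ)).infinite_compl
  -- compare coefficients
  have hcf := congrArg (fun r => r.coeff (d - j)) hGeq
  simp only [hG, finsetSum_coeff, coeff_C_mul, coeff_X_pow] at hcf
  rw [Finset.sum_eq_single j] at hcf
  · simp only [if_true, mul_one] at hcf
    rw [hcoeff, hcoeff, hcoeff] at hcf
    exact_mod_cast hcf
  · intro i hi hij
    have hi' : i ≤ d := Nat.lt_succ_iff.mp (Finset.mem_range.mp hi)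
    rw [if_neg, mul_zero]
    omega
  · intro h0
    exact absurd (Finset.mem_range.mpr (Nat.lt_succ_of_le hj)) h0

end Groth.Agent.Lib.Helper1.WeilCI
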