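import Groth.Agent.Lib.Helper1.WeilCI.Basic
import Groth.Agent.Lib.Helper55.KrullDimIntegral

/-!
# The order `ℤ[π, n/π]`: finite free of rank `2D`, of dimension one (S17985)
-/

set_option autoImplicit false
set_option linter.unusedSectionVars false

universe u

open Polynomial

namespace Groth.Agent.Lib.Helper1.WeilCI

section

variable {ι : Type} [Fintype ι] (K : ι → Type u) [∀ i, Field (K i)] [∀ i, CharZero (K i)]
  (π v : ∀ i, K i) (n : ℕ) (hπv : ∀ i, π i * v i = (n : K i)) (hπ0 : ∀ i, π i ≠ 0)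
  (Pw : ℤ[X]) (hmonic : Pw.Monic) (D : ℕ) (hdeg : Pw.natDegree = 2 * D)
  (hFE : ∀ j ≤ 2 * D, Pw.coeff j * (n : ℤ) ^ j = Pw.coeff 0 * Pw.coeff (2 * D - j))
  (hroot : ∀ i, aeval (π i) Pw = 0)
  (hker : ∀ g : ℤ[X], (∀ i, aeval (π i) g = 0) → Pw ∣ g)

/-- The map `ℤ[F,V] → ∏ K_i`. -/
noncomputable abbrev phi : P →ₐ[ℤ] ((i : ι) → K i) := MvPolynomial.aeval ![π, v]

lemma aeval_pi_apply (x : ∀ i, K i) (g : ℤ[X]) (i : ι) : (aeval x g) i = aeval (x i) g := by
  have := Polynomial.aeval_algHom_apply (Pi.evalAlgHom ℤ K i) x g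
  simpa using this.symm

include hπv hπ0 hdeg hFE hroot in
lemma aeval_v (i : ι) : aeval (v i) Pw = 0 := by
  have h1 : π i ^ (2 * D) * aeval (v i) Pw = ((Pw.coeff 0 : ℤ) : K i) * aeval (π i) Pw := by
    rw [aeval_eq_sum_range, aeval_eq_sum_range, hdeg, Finset.mul_sum, Finset.mul_sum]
    rw [← Finset.sum_range_reflect (fun j => ((Pw.coeff 0 : ℤ) : K i) * (Pw.coeff j • π i ^ j))]
    refine Finset.sum_congr rfl fun j hj => ?_
    have hj' : j ≤ 2 * D := Nat.lt_succ_iff.mp (Finset.mem_range.mp hj)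
    have e1 : 2 * D + 1 - 1 - j = 2 * D - j := by omega
    rw [e1]
    have e2 : π i ^ (2 * D) = π i ^ (2 * D - j) * π i ^ j := by
      rw [← pow_add, Nat.sub_add_cancel hj']
    have e3 : ((Pw.coeff j : ℤ) : K i) * (n : K i) ^ j =
        ((Pw.coeff 0 : ℤ) : K i) * ((Pw.coeff (2 * D - j) : ℤ) : K i) := by
      have := congrArg (fun z : ℤ => (z : K i)) (hFE j hj')
      simpa using this
    rw [zsmul_eq_mul, zsmul_eq_mul, e2]
    calc π i ^ (2 * D - j) * π i ^ j * (((Pw.coeff j : ℤ) : K i) * v i ^ j)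
        = (((Pw.coeff j : ℤ) : K i) * (π i * v i) ^ j) * π i ^ (2 * D - j) := by
          rw [mul_pow]; ring
      _ = _ := by rw [hπv, e3]; ring
  rw [hroot, mul_zero] at h1
  rcases mul_eq_zero.mp h1 with h | h
  · exact absurd h (pow_ne_zero _ (hπ0 i))
  · exact h

include hmonic hroot in
lemma isIntegral_pi : IsIntegral ℤ π :=
  ⟨Pw, hmonic, by
    rw [← aeval_def]
    funext i
    rw [aeval_pi_apply, hroot]; rfl⟩

include hπv hπ0 hmonic hdeg hFE hroot in
lemma isIntegral_v : IsIntegral ℤ v :=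
  ⟨Pw, hmonic, by
    rw [← aeval_def]
    funext i
    rw [aeval_pi_apply, aeval_v K π v n hπv hπ0 Pw D hdeg hFE hroot]; rfl⟩

include hπv hπ0 hmonic hdeg hFE hroot in
lemma finite_range : Module.Finite ℤ (phi K π v).range := by
  have h1 : Algebra.adjoin ℤ (Set.range ![π, v]) = (phi K π v).range :=
    Algebra.adjoin_range_eq_range_aeval ℤ _
  have h2 : (Subalgebra.toSubmodule (Algebra.adjoin ℤ (Set.range ![π, v]))).FG := by
    apply fg_adjoin_of_finite (Set.finite_range _)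
    rintro x ⟨k, rfl⟩
    fin_cases k
    · exact isIntegral_pi K π Pw hmonic hroot
    · exact isIntegral_v K π v n hπv hπ0 Pw hmonic D hdeg hFE hroot
  rw [h1] at h2
  exact Module.Finite.of_fg h2

include hπv in
lemma phi_Q : phi K π v (Qp (n : ℤ)) = 0 := by
  have hX0 : phi K π v (MvPolynomial.X 0) = π := by simp [phi]
  have hX1 : phi K π v (MvPolynomial.X 1) = v := by simp [phi]
  rw [Qp, map_sub, map_mul, MvPolynomial.algHom_C, hX0, hX1]
  funext i
  have h1 : (algebraMap ℤ ((i : ι) → K i) (n : ℤ)) i = (n : K i) := by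
    rw [Pi.algebraMap_apply, eq_intCast, Int.cast_natCast]
  rw [Pi.sub_apply, Pi.mul_apply, h1, hπv, sub_self]
  rfl

lemma phi_aeval (g : ℤ[X]) : phi K π v (aeval (MvPolynomial.X 0 : P) g) = aeval π g := by
  rw [← Polynomial.aeval_algHom_apply]
  simp [phi]

include hπv in
/-- `π^N φ(f)` lies in `ℤ[π]`. -/
lemma exists_pow_mul_phi (f : P) :
    ∃ (N : ℕ) (g : ℤ[X]), π ^ N * phi K π v f = aeval π g := by
  obtain ⟨N, g, hg⟩ := exists_pow_mul_sub_mem (n : ℤ) f
  obtain ⟨y, hy⟩ := Ideal.mem_span_singleton'.mp hg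
  refine ⟨N, g, ?_⟩
  have h1 := congrArg (phi K π v) hy
  rw [map_mul, phi_Q K π v n hπv, mul_zero, map_sub, map_mul, map_pow, phi_aeval] at h1
  have h2 : phi K π v (MvPolynomial.X 0) = π := by simp [phi]
  rw [h2] at h1
  exact (sub_eq_zero.mp h1.symm)

include hπv hπ0 hmonic hdeg hFE hroot in
lemma exists_uniform_pow :
    ∃ N : ℕ, ∀ x ∈ (phi K π v).range, π ^ N * x ∈ (aeval π : ℤ[X] →ₐ[ℤ] ((i : ι) → K i)).range := by
  classical
  have hfin := finite_range K π v n hπv hπ0 Pw hmonic D hdeg hFE hroot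
  obtain ⟨s, hs⟩ := hfin.fg_top
  have hx : ∀ x : (phi K π v).range, ∃ (N : ℕ) (g : ℤ[X]), π ^ N * (x : (i : ι) → K i) = aeval π g := by
    rintro ⟨x, f, rfl⟩
    exact exists_pow_mul_phi K π v n hπv f
  choose N' g' hN' using hx
  refine ⟨∑ w ∈ s, N' w, ?_⟩
  intro x hxr
  have hmem : (⟨x, hxr⟩ : (phi K π v).range) ∈ Submodule.span ℤ (s : Set (phi K π v).range) := by
    rw [hs]; exact Submodule.mem_top
  have key : ∀ y : (phi K π v).range, y ∈ Submodule.span ℤ (s : Set (phi K π v).range) →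
      π ^ (∑ w ∈ s, N' w) * (y : (i : ι) → K i) ∈
        (aeval π : ℤ[X] →ₐ[ℤ] ((i : ι) → K i)).range := by
    intro y hy
    induction hy using Submodule.span_induction with
    | mem w hw =>
      have hw' : w ∈ s := hw
      have hle : N' w ≤ ∑ w ∈ s, N' w := Finset.single_le_sum (fun _ _ => Nat.zero_le _) hw'
      refine ⟨X ^ (∑ w ∈ s, N' w - N' w) * g' w, ?_⟩
      show aeval π (X ^ (∑ w ∈ s, N' w - N' w) * g' w) = _
      rw [map_mul, map_pow, aeval_X, ← hN' w, ← mul_assoc, ← pow_add, Nat.sub_add_cancel hle]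
    | zero => simp
    | add a b _ _ ha hb =>
      rw [Subalgebra.coe_add, mul_add]
      exact Subalgebra.add_mem _ ha hb
    | smul c a _ ha =>
      rw [Subalgebra.coe_smul, mul_smul_comm]
      exact Subalgebra.smul_mem _ ha c
  exact key ⟨x, hxr⟩ hmem

include hroot hker in
lemma ker_aeval_pi : RingHom.ker (aeval π : ℤ[X] →ₐ[ℤ] ((i : ι) → K i)) = Ideal.span {Pw} := by
  apply le_antisymm
  · intro g hg
    rw [RingHom.mem_ker] at hg
    apply Ideal.mem_span_singleton.mpr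
    apply hker
    intro i
    have := congrFun hg i
    rwa [aeval_pi_apply] at this
  · rw [Ideal.span_le, Set.singleton_subset_iff]
    show aeval π Pw = 0
    funext i
    rw [aeval_pi_apply, hroot]; rfl

include hmonic hdeg hroot hker in
lemma finrank_range_aeval_pi :
    Module.Finite ℤ (aeval π : ℤ[X] →ₐ[ℤ] ((i : ι) → K i)).range ∧
    Module.finrank ℤ (aeval π : ℤ[X] →ₐ[ℤ] ((i : ι) → K i)).range = 2 * D := by
  have e1 : (ℤ[X] ⧸ RingHom.ker (aeval π : ℤ[X] →ₐ[ℤ] ((i : ι) → K i))) ≃ₐ[ℤ]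
      (aeval π : ℤ[X] →ₐ[ℤ] ((i : ι) → K i)).range := Ideal.quotientKerEquivRange _
  have e2 : AdjoinRoot Pw ≃ₐ[ℤ] (ℤ[X] ⧸ RingHom.ker (aeval π : ℤ[X] →ₐ[ℤ] ((i : ι) → K i))) :=
    Ideal.quotientEquivAlgOfEq ℤ (ker_aeval_pi K π Pw hroot hker).symm
  have e : AdjoinRoot Pw ≃ₗ[ℤ] (aeval π : ℤ[X] →ₐ[ℤ] ((i : ι) → K i)).range :=
    (e2.trans e1).toLinearEquiv
  have hf : Module.Finite ℤ (AdjoinRoot Pw) := hmonic.finite_adjoinRoot
  refine ⟨Module.Finite.equiv e, ?_⟩
  rw [← e.finrank_eq, (AdjoinRoot.powerBasis' hmonic).finrank, AdjoinRoot.powerBasis'_dim, hdeg]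

include hπv hπ0 hmonic hdeg hFE hroot hker in
theorem finrank_range : Module.finrank ℤ (phi K π v).range = 2 * D := by
  obtain ⟨hfin0, hrk0⟩ := finrank_range_aeval_pi K π Pw hmonic D hdeg hroot hker
  have hfin := finite_range K π v n hπv hπ0 Pw hmonic D hdeg hFE hroot
  obtain ⟨N, hN⟩ := exists_uniform_pow K π v n hπv hπ0 Pw hmonic D hdeg hFE hroot
  set S₀ : Submodule ℤ ((i : ι) → K i) :=
    Subalgebra.toSubmodule (aeval π : ℤ[X] →ₐ[ℤ] ((i : ι) → K i)).range with hS₀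
  set Sw : Submodule ℤ ((i : ι) → K i) := Subalgebra.toSubmodule (phi K π v).range with hSw
  have hle : S₀ ≤ Sw := by
    rintro x ⟨g, rfl⟩
    exact ⟨aeval (MvPolynomial.X 0 : P) g, phi_aeval K π v g⟩
  have hfinw : Module.Finite ℤ Sw := hfin
  have hfin0' : Module.Finite ℤ S₀ := hfin0
  have h1 : Module.finrank ℤ S₀ ≤ Module.finrank ℤ Sw := Submodule.finrank_mono hle
  let μ : Sw →ₗ[ℤ] S₀ :=
    { toFun := fun x => ⟨π ^ N * (x : (i : ι) → K i), hN x.1 x.2⟩
      map_add' := fun x y => by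
        apply Subtype.ext
        simp [mul_add]
      map_smul' := fun c x => by
        apply Subtype.ext
        show π ^ N * ((c • x : Sw) : (i : ι) → K i) = c • (π ^ N * (x : (i : ι) → K i))
        rw [Submodule.coe_smul, mul_smul_comm] }
  have hμ : Function.Injective μ := by
    intro x y hxy
    have h := congrArg (fun z : S₀ => (z : (i : ι) → K i)) hxy
    apply Subtype.ext
    funext i
    have hi := congrFun h i
    simp only [μ, LinearMap.coe_mk, AddHom.coe_mk, Pi.mul_apply, Pi.pow_apply] at hi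
    exact mul_left_cancel₀ (pow_ne_zero N (hπ0 i)) hi
  have h2 : Module.finrank ℤ Sw ≤ Module.finrank ℤ S₀ :=
    LinearMap.finrank_le_finrank_of_injective hμ
  have h3 : Module.finrank ℤ Sw = 2 * D := by
    have : Module.finrank ℤ S₀ = 2 * D := hrk0
    omega
  exact h3

include hπv hπ0 hmonic hdeg hFE hroot in
theorem ringKrullDim_range [Nonempty ι] : ringKrullDim (phi K π v).range = 1 := by
  have hfin := finite_range K π v n hπv hπ0 Pw hmonic D hdeg hFE hroot
  have hint : Algebra.IsIntegral ℤ (phi K π v).range := Algebra.IsIntegral.of_finite ℤ _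
  have hinj : Function.Injective (algebraMap ℤ (phi K π v).range) := by
    intro a b hab
    have h1 := congrArg (fun z : (phi K π v).range => (z : (i : ι) → K i)) hab
    obtain ⟨i⟩ := ‹Nonempty ι›
    have h2 : ((a : ℤ) : K i) = ((b : ℤ) : K i) := by simpa using congrFun h1 i
    exact Int.cast_injective h2
  rw [Groth.Agent.Lib.Helper55.ringKrullDim_eq_of_isIntegral_of_injective ℤ _ hinj]
  exact IsPrincipalIdealRing.ringKrullDim_eq_one ℤ Int.not_isField

end

end Groth.Agent.Lib.Helper1.WeilCI
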