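import Mathlib

/-!
# Facts on Weil numbers used in S17984
-/

set_option autoImplicit false
set_option linter.unusedSectionVars false

open Polynomial

namespace Groth.Agent.Lib.Helper1.WeilCI

section one

variable {K : Type*} [Field K] [CharZero K] (x : K) (hx : IsIntegral ℤ x) (r : ℝ)
  (hw : ∀ z ∈ (minpoly ℤ x).aroots ℂ, ‖z‖ = r)

include hx hw in
lemma norm_coeff_zero :
    ‖(((minpoly ℤ x).coeff 0 : ℤ) : ℂ)‖ = r ^ (minpoly ℤ x).natDegree := by
  set f := (minpoly ℤ x).map (algebraMap ℤ ℂ) with hf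
  have hm : f.Monic := (minpoly.monic hx).map _
  have hs : f.Splits := IsAlgClosed.splits f
  have h0 : f.coeff 0 = (-1) ^ f.natDegree * f.roots.prod :=
    hs.coeff_zero_eq_prod_roots_of_monic hm
  have hcard : f.natDegree = Multiset.card f.roots := hs.natDegree_eq_card_roots
  have hdeg : f.natDegree = (minpoly ℤ x).natDegree := (minpoly.monic hx).natDegree_map _
  have hc : f.coeff 0 = (((minpoly ℤ x).coeff 0 : ℤ) : ℂ) := by
    rw [hf, coeff_map]; simp
  rw [← hc, h0, norm_mul, norm_pow, norm_neg, norm_one, one_pow, one_mul, ← hdeg, hcard]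
  have h1 : ‖f.roots.prod‖ = (f.roots.map (fun z => ‖z‖)).prod :=
    map_multiset_prod (normHom : ℂ →*₀ ℝ) f.roots
  rw [h1]
  have h2 : f.roots.map (fun z => ‖z‖) = f.roots.map (fun _ => r) :=
    Multiset.map_congr rfl fun z hz => hw z hz
  rw [h2, Multiset.map_const', Multiset.prod_replicate]

include hx hw in
lemma ne_zero_of_weil (hr : 0 < r) : x ≠ 0 := by
  intro h0
  have h1 := norm_coeff_zero x hx r hw
  subst h0
  have hz : minpoly ℤ (0 : K) = X := by
    have := minpoly.eq_X_sub_C_of_algebraMap_inj (B := K) (0 : ℤ) (algebraMap ℤ K).injective_int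
    rwa [map_zero, map_zero, sub_zero] at this
  rw [hz, coeff_X_zero, Int.cast_zero, norm_zero] at h1
  exact absurd h1 (ne_of_lt (pow_pos hr _))

end one

section family

variable {ι : Type} [Fintype ι] (K : ι → Type*) [∀ i, Field (K i)] [∀ i, CharZero (K i)]
  (π : ∀ i, K i) (hint : ∀ i, IsIntegral ℤ (π i))

include hint in
lemma monic_prod : (∏ i, minpoly ℤ (π i)).Monic :=
  monic_prod_of_monic _ _ fun i _ => minpoly.monic (hint i)

include hint in
lemma natDegree_prod : (∏ i, minpoly ℤ (π i)).natDegree = ∑ i, (minpoly ℤ (π i)).natDegree :=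
  natDegree_prod_of_monic _ _ fun i _ => minpoly.monic (hint i)

include hint in
lemma coeff_zero_prod (n D : ℕ)
    (hweil : ∀ i, ∀ z ∈ (minpoly ℤ (π i)).aroots ℂ, ‖z‖ = Real.sqrt (n : ℝ))
    (hD : ∑ i, (minpoly ℤ (π i)).natDegree = 2 * D) :
    (∏ i, minpoly ℤ (π i)).coeff 0 = (n : ℤ) ^ D ∨ (∏ i, minpoly ℤ (π i)).coeff 0 = -(n : ℤ) ^ D := by
  set r : ℝ := Real.sqrt (n : ℝ) with hr
  have h1 : (∏ i, minpoly ℤ (π i)).coeff 0 = ∏ i, (minpoly ℤ (π i)).coeff 0 := by
    rw [coeff_zero_eq_eval_zero, eval_prod]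
    exact Finset.prod_congr rfl fun i _ => (coeff_zero_eq_eval_zero _).symm
  have h2 : ‖(((∏ i, minpoly ℤ (π i)).coeff 0 : ℤ) : ℂ)‖ = (n : ℝ) ^ D := by
    rw [h1, Int.cast_prod, norm_prod]
    rw [Finset.prod_congr rfl fun i _ => norm_coeff_zero (π i) (hint i) r (hweil i)]
    rw [Finset.prod_pow_eq_pow_sum, hD, pow_mul, hr, Real.sq_sqrt (Nat.cast_nonneg n)]
  rw [Complex.norm_intCast] at h2
  have h3 : |(∏ i, minpoly ℤ (π i)).coeff 0| = (n : ℤ) ^ D := by
    have : ((|(∏ i, minpoly ℤ (π i)).coeff 0| : ℤ) : ℝ) = (((n : ℤ) ^ D : ℤ) : ℝ) := by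
      rw [Int.cast_abs, h2]; push_cast; rfl
    exact_mod_cast this
  exact (abs_eq (by positivity)).mp h3

include hint in
lemma prod_dvd_of_aeval_eq_zero
    (hinj : ∀ i j, minpoly ℤ (π i) = minpoly ℤ (π j) → i = j)
    (g : ℤ[X]) (hg : ∀ i, aeval (π i) g = 0) : (∏ i, minpoly ℤ (π i)) ∣ g := by
  apply Fintype.prod_dvd_of_isRelPrime
  · intro i j hij
    have hi : Irreducible (minpoly ℤ (π i)) := (minpoly.prime_of_isIntegrallyClosed (hint i)).irreducible
    have hj : Irreducible (minpoly ℤ (π j)) := (minpoly.prime_of_isIntegrallyClosed (hint j)).irreducible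
    show IsRelPrime (minpoly ℤ (π i)) (minpoly ℤ (π j))
    rw [hi.isRelPrime_iff_not_dvd]
    intro hdvd
    have hass : Associated (minpoly ℤ (π i)) (minpoly ℤ (π j)) :=
      (hi.dvd_irreducible_iff_associated hj).mp hdvd
    exact hij (hinj i j (eq_of_monic_of_associated (minpoly.monic (hint i))
      (minpoly.monic (hint j)) hass))
  · intro i
    exact minpoly.isIntegrallyClosed_dvd (hint i) (hg i)

end family

end Groth.Agent.Lib.Helper1.WeilCI
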