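import Mathlib

/-!
# Helper lemmas for `ℤ[F,V]/(FV - q)` (S17984)
-/

set_option autoImplicit false

open MvPolynomial

namespace Groth.Agent.Lib.Helper1.WeilCI

/-- The polynomial ring `ℤ[F, V]`. -/
abbrev P := MvPolynomial (Fin 2) ℤ

/-- `Q = F V - q`. -/
noncomputable abbrev Qp (q : ℤ) : P := X 0 * X 1 - C q

/-- evaluation `F ↦ 0`, `V ↦ X`. -/
noncomputable def ev0 : P →ₐ[ℤ] Polynomial ℤ := aeval ![0, Polynomial.X]

/-- `ℤ[X] → ℤ[F,V]`, `X ↦ V`. -/
noncomputable def ιV : Polynomial ℤ →ₐ[ℤ] P := Polynomial.aeval (X 1)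

@[simp] lemma ev0_X0 : ev0 (X 0) = 0 := by simp [ev0]
@[simp] lemma ev0_X1 : ev0 (X 1) = Polynomial.X := by simp [ev0]
@[simp] lemma ev0_C (a : ℤ) : ev0 (C a) = Polynomial.C a := by simp [ev0]

lemma decomp0 (y : P) : ∃ g : P, y = ιV (ev0 y) + X 0 * g := by
  induction y using MvPolynomial.induction_on with
  | C a => exact ⟨0, by simp [ιV]⟩
  | add f g hf hg =>
    obtain ⟨a, ha⟩ := hf
    obtain ⟨b, hb⟩ := hg
    refine ⟨a + b, ?_⟩
    rw [map_add, map_add]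
    nth_rewrite 1 [ha, hb]
    ring
  | mul_X f i hf =>
    obtain ⟨a, ha⟩ := hf
    fin_cases i
    · refine ⟨f, ?_⟩
      simp [mul_comm]
    · refine ⟨a * X 1, ?_⟩
      have : ιV (ev0 (f * X 1)) = ιV (ev0 f) * X 1 := by
        simp [ιV]
      change f * X 1 = ιV (ev0 (f * X 1)) + X 0 * (a * X 1)
      rw [this]
      nth_rewrite 1 [ha]
      ring

lemma X0_dvd_of_ev0_eq_zero {y : P} (hy : ev0 y = 0) : (X 0 : P) ∣ y := by
  obtain ⟨g, hg⟩ := decomp0 y
  rw [hy, map_zero, zero_add] at hg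
  exact ⟨g, hg⟩

lemma X0_ne_zero : (X 0 : P) ≠ 0 := MvPolynomial.X_ne_zero 0

/-- `F` is a nonzerodivisor modulo `Q`. -/
lemma stepA {q : ℤ} (hq : q ≠ 0) {x y : P} (h : X 0 * x = Qp q * y) :
    ∃ y' : P, y = X 0 * y' ∧ x = Qp q * y' := by
  have h1 : ev0 (X 0 * x) = ev0 (Qp q * y) := congrArg ev0 h
  have h2 : Polynomial.C q * ev0 y = 0 := by
    simp only [Qp, map_mul, map_sub, ev0_X0, ev0_X1, ev0_C, zero_mul, zero_sub] at h1
    rw [neg_mul] at h1
    exact neg_eq_zero.mp h1.symm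
  have h3 : ev0 y = 0 := by
    rcases mul_eq_zero.mp h2 with h | h
    · exact absurd (Polynomial.C_eq_zero.mp h) hq
    · exact h
  obtain ⟨y', hy'⟩ := X0_dvd_of_ev0_eq_zero h3
  refine ⟨y', hy', ?_⟩
  have : X 0 * x = X 0 * (Qp q * y') := by rw [h, hy']; ring
  exact mul_left_cancel₀ X0_ne_zero this

lemma mem_span_Q_of_pow_mul {q : ℤ} (hq : q ≠ 0) (N : ℕ) {x : P}
    (h : X 0 ^ N * x ∈ Ideal.span {Qp q}) : x ∈ Ideal.span {Qp q} := by
  induction N with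
  | zero => simpa using h
  | succ N ih =>
    apply ih
    obtain ⟨y, hy⟩ := Ideal.mem_span_singleton'.mp h
    have : X 0 * (X 0 ^ N * x) = Qp q * y := by rw [mul_comm (Qp q) y, hy]; ring
    obtain ⟨y', -, hy'⟩ := stepA hq this
    exact Ideal.mem_span_singleton'.mpr ⟨y', by rw [hy']; ring⟩

/-- Every `f` becomes a polynomial in `F` modulo `Q` after multiplying by a power of `F`. -/
lemma exists_pow_mul_sub_mem (q : ℤ) (f : P) :
    ∃ (N : ℕ) (g : Polynomial ℤ),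
      X 0 ^ N * f - Polynomial.aeval (X 0 : P) g ∈ Ideal.span {Qp q} := by
  induction f using MvPolynomial.induction_on with
  | C a => exact ⟨0, Polynomial.C a, by simp⟩
  | add f₁ f₂ h₁ h₂ =>
    obtain ⟨N₁, g₁, h₁⟩ := h₁
    obtain ⟨N₂, g₂, h₂⟩ := h₂
    refine ⟨N₁ + N₂, Polynomial.X ^ N₂ * g₁ + Polynomial.X ^ N₁ * g₂, ?_⟩
    have : X 0 ^ (N₁ + N₂) * (f₁ + f₂) -
        Polynomial.aeval (X 0 : P) (Polynomial.X ^ N₂ * g₁ + Polynomial.X ^ N₁ * g₂) =
        X 0 ^ N₂ * (X 0 ^ N₁ * f₁ - Polynomial.aeval (X 0 : P) g₁) +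
        X 0 ^ N₁ * (X 0 ^ N₂ * f₂ - Polynomial.aeval (X 0 : P) g₂) := by
      simp only [map_add, map_mul, map_pow, Polynomial.aeval_X]
      ring
    rw [this]
    exact Ideal.add_mem _ (Ideal.mul_mem_left _ _ h₁) (Ideal.mul_mem_left _ _ h₂)
  | mul_X f i hf =>
    obtain ⟨N, g, hg⟩ := hf
    fin_cases i
    · refine ⟨N, g * Polynomial.X, ?_⟩
      have : X 0 ^ N * (f * X 0) - Polynomial.aeval (X 0 : P) (g * Polynomial.X) =
          X 0 * (X 0 ^ N * f - Polynomial.aeval (X 0 : P) g) := by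
        simp only [map_mul, Polynomial.aeval_X]
        ring
      change X 0 ^ N * (f * X 0) - Polynomial.aeval (X 0 : P) (g * Polynomial.X) ∈ _
      rw [this]
      exact Ideal.mul_mem_left _ _ hg
    · refine ⟨N + 1, Polynomial.C q * g, ?_⟩
      have : X 0 ^ (N + 1) * (f * X 1) - Polynomial.aeval (X 0 : P) (Polynomial.C q * g) =
          X 0 * X 1 * (X 0 ^ N * f - Polynomial.aeval (X 0 : P) g) +
          Polynomial.aeval (X 0 : P) g * Qp q := by
        simp only [map_mul, Polynomial.aeval_C, Qp]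
        simp only [MvPolynomial.algebraMap_eq]
        ring
      change X 0 ^ (N + 1) * (f * X 1) - Polynomial.aeval (X 0 : P) (Polynomial.C q * g) ∈ _
      rw [this]
      exact Ideal.add_mem _ (Ideal.mul_mem_left _ _ hg)
        (Ideal.mul_mem_left _ _ (Ideal.subset_span rfl))

/-- If `y(0,V)` vanishes modulo `n`, then `y ∈ (F, Q)`. -/
lemma exists_eq_of_map_ev0_eq_zero (n : ℕ) [NeZero n] {b : P}
    (hb : (ev0 b).map (Int.castRingHom (ZMod n)) = 0) :
    ∃ b₁ b₂ : P, b = X 0 * b₁ + Qp (n : ℤ) * b₂ := by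
  have hdvd : Polynomial.C (n : ℤ) ∣ ev0 b := by
    rw [Polynomial.C_dvd_iff_dvd_coeff]
    intro i
    have := congrArg (fun r => Polynomial.coeff r i) hb
    simp only [Polynomial.coeff_map, Polynomial.coeff_zero, eq_intCast] at this
    exact (ZMod.intCast_zmod_eq_zero_iff_dvd _ _).mp this
  obtain ⟨w, hw⟩ := hdvd
  obtain ⟨g, hg⟩ := decomp0 b
  refine ⟨X 1 * ιV w + g, - ιV w, ?_⟩
  nth_rewrite 1 [hg]
  rw [hw, map_mul]
  have : ιV (Polynomial.C (n : ℤ)) = C (n : ℤ) := by simp [ιV]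
  rw [this]
  ring

end Groth.Agent.Lib.Helper1.WeilCI
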