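import Groth.Agent.Lib.Helper1.WeilCI.Basic

/-!
# Embeddings of `ℤ[F,V]/(FV - q)` into rational functions (S17984)
-/

set_option autoImplicit false

open MvPolynomial

namespace Groth.Agent.Lib.Helper1.WeilCI

/-- The field of rational functions. -/
abbrev L := RatFunc ℤ

/-- `ℤ[X] → ℤ(X)`. -/
noncomputable abbrev α : Polynomial ℤ →+* L := algebraMap (Polynomial ℤ) L

lemma α_inj : Function.Injective α := RatFunc.algebraMap_injective ℤ

/-- `T = X` in `ℤ(X)`. -/
noncomputable abbrev T : L := α Polynomial.X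

lemma T_ne_zero : T ≠ 0 := by
  intro h
  have : (Polynomial.X : Polynomial ℤ) = 0 := α_inj (by rw [map_zero]; exact h)
  exact Polynomial.X_ne_zero this

lemma T_mul_div (q : ℤ) : T * ((q : L) / T) = q := by
  rw [mul_comm, div_mul_cancel₀ _ T_ne_zero]

/-- The ring map `ℤ[F,V] → ℤ(X)` with `F ↦ a`, `V ↦ b`. -/
noncomputable def jj (a b : L) : P →+* L := eval₂Hom (Int.castRingHom L) ![a, b]

@[simp] lemma jj_X0 (a b : L) : jj a b (X 0) = a := by simp [jj]
@[simp] lemma jj_X1 (a b : L) : jj a b (X 1) = b := by simp [jj]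
@[simp] lemma jj_C (a b : L) (c : ℤ) : jj a b (C c) = (c : L) := by simp [jj]

lemma jj_Q (a b : L) (q : ℤ) (hab : a * b = (q : L)) : jj a b (Qp q) = 0 := by
  simp [Qp, hab]

lemma jj_aeval (a b : L) (g : Polynomial ℤ) :
    jj a b (Polynomial.aeval (X 0 : P) g) = Polynomial.eval₂ (Int.castRingHom L) a g := by
  rw [Polynomial.aeval_def, Polynomial.hom_eval₂, jj_X0]
  congr 1
  exact RingHom.ext_int _ _

lemma eval₂_T (g : Polynomial ℤ) : Polynomial.eval₂ (Int.castRingHom L) T g = α g := by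
  have h1 : α g = α (Polynomial.eval₂ Polynomial.C Polynomial.X g) := by
    rw [Polynomial.eval₂_C_X]
  rw [h1, Polynomial.hom_eval₂]
  congr 1
  exact RingHom.ext_int _ _

lemma α_intCast (c : ℤ) : α (Polynomial.C c) = (c : L) := by
  have : α.comp Polynomial.C = Int.castRingHom L := RingHom.ext_int _ _
  exact congrArg (fun f : ℤ →+* L => f c) this

/-- `F ↦ X`, `V ↦ q / X`. -/
noncomputable def jF (q : ℤ) : P →+* L := jj T ((q : L) / T)

lemma jF_Q (q : ℤ) : jF q (Qp q) = 0 :=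
  jj_Q _ _ _ (T_mul_div q)

lemma jF_aeval (q : ℤ) (g : Polynomial ℤ) : jF q (Polynomial.aeval (X 0 : P) g) = α g := by
  rw [jF, jj_aeval, eval₂_T]

lemma jF_X0 (q : ℤ) : jF q (X 0) = T := jj_X0 _ _

/-- The kernel of `jF` is `(Q)`. -/
lemma mem_span_Q_of_jF_eq_zero {q : ℤ} (hq : q ≠ 0) {x : P} (hx : jF q x = 0) :
    x ∈ Ideal.span {Qp q} := by
  obtain ⟨N, g, hg⟩ := exists_pow_mul_sub_mem q x
  obtain ⟨y, hy⟩ := Ideal.mem_span_singleton'.mp hg
  have h1 : jF q (X 0 ^ N * x - Polynomial.aeval (X 0 : P) g) = 0 := by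
    rw [← hy, map_mul, jF_Q, mul_zero]
  rw [map_sub, map_mul, hx, mul_zero, zero_sub, neg_eq_zero, jF_aeval] at h1
  have hg0 : g = 0 := α_inj (by rw [h1, map_zero])
  rw [hg0, map_zero, sub_zero] at hg
  exact mem_span_Q_of_pow_mul hq N hg

/-- `F ↦ q / X`, `V ↦ X`. -/
noncomputable def jV (q : ℤ) : P →+* L := jj ((q : L) / T) T

lemma jV_Q (q : ℤ) : jV q (Qp q) = 0 :=
  jj_Q _ _ _ (by rw [mul_comm]; exact T_mul_div q)

lemma jV_aeval (q : ℤ) (g : Polynomial ℤ) :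
    jV q (Polynomial.aeval (X 0 : P) g) = Polynomial.eval₂ (Int.castRingHom L) ((q : L) / T) g := by
  rw [jV, jj_aeval]

lemma jV_X0 (q : ℤ) : jV q (X 0) = (q : L) / T := jj_X0 _ _
lemma jV_X1 (q : ℤ) : jV q (X 1) = T := jj_X1 _ _

/-- After clearing denominators, `h(q/X, X) ≡ h(0, X)` modulo `q`. -/
lemma exists_jV (q : ℤ) (h : P) :
    ∃ (M : ℕ) (w : Polynomial ℤ),
      T ^ M * jV q h = α (Polynomial.X ^ M * ev0 h + Polynomial.C q * w) := by
  induction h using MvPolynomial.induction_on with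
  | C a =>
    refine ⟨0, 0, ?_⟩
    simp only [pow_zero, one_mul, mul_zero, add_zero, ev0_C]
    rw [α_intCast]
    simp [jV]
  | add f₁ f₂ h₁ h₂ =>
    obtain ⟨M₁, w₁, h₁⟩ := h₁
    obtain ⟨M₂, w₂, h₂⟩ := h₂
    refine ⟨M₁ + M₂, Polynomial.X ^ M₂ * w₁ + Polynomial.X ^ M₁ * w₂, ?_⟩
    have e1 : T ^ (M₁ + M₂) * jV q (f₁ + f₂) =
        T ^ M₂ * (T ^ M₁ * jV q f₁) + T ^ M₁ * (T ^ M₂ * jV q f₂) := by
      rw [map_add]; ring
    rw [e1, h₁, h₂]
    have e2 : Polynomial.X ^ (M₁ + M₂) * ev0 (f₁ + f₂) +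
        Polynomial.C q * (Polynomial.X ^ M₂ * w₁ + Polynomial.X ^ M₁ * w₂) =
        Polynomial.X ^ M₂ * (Polynomial.X ^ M₁ * ev0 f₁ + Polynomial.C q * w₁) +
        Polynomial.X ^ M₁ * (Polynomial.X ^ M₂ * ev0 f₂ + Polynomial.C q * w₂) := by
      rw [map_add]; ring
    rw [e2]
    simp only [map_add, map_mul, map_pow]
  | mul_X f i hf =>
    obtain ⟨M, w, hw⟩ := hf
    fin_cases i
    · refine ⟨M + 1, Polynomial.X ^ M * ev0 f + Polynomial.C q * w, ?_⟩
      change T ^ (M + 1) * jV q (f * X 0) =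
        α (Polynomial.X ^ (M + 1) * ev0 (f * X 0) +
          Polynomial.C q * (Polynomial.X ^ M * ev0 f + Polynomial.C q * w))
      have e1 : T ^ (M + 1) * jV q (f * X 0) = (q : L) * (T ^ M * jV q f) := by
        rw [map_mul, jV_X0]
        calc T ^ (M + 1) * (jV q f * ((q : L) / T))
            = (T * ((q : L) / T)) * (T ^ M * jV q f) := by ring
          _ = _ := by rw [T_mul_div]
      rw [e1, hw, map_mul ev0, ev0_X0, mul_zero, mul_zero, zero_add, map_mul α, α_intCast]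
    · refine ⟨M, w * Polynomial.X, ?_⟩
      change T ^ M * jV q (f * X 1) =
        α (Polynomial.X ^ M * ev0 (f * X 1) + Polynomial.C q * (w * Polynomial.X))
      have e1 : T ^ M * jV q (f * X 1) = (T ^ M * jV q f) * T := by
        rw [map_mul, jV_X1]; ring
      rw [e1, hw, ← map_mul α, map_mul ev0, ev0_X1]
      congr 1
      ring

end Groth.Agent.Lib.Helper1.WeilCI
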