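import Groth.Agent.Lib.Helper1.WeilCI.Basic

/-!
# Existence of the symmetric polynomial `h` (S17985)
-/

set_option autoImplicit false

open MvPolynomial

namespace Groth.Agent.Lib.Helper1.WeilCI

theorem exists_h (n : ℕ) (hn : 0 < n) (D : ℕ) (Pw : Polynomial ℤ) (hdeg : Pw.natDegree = 2 * D)
    (ε : ℤ) (hc0 : Pw.coeff 0 = ε * (n : ℤ) ^ D)
    (hFE : ∀ j ≤ 2 * D, Pw.coeff j * (n : ℤ) ^ j = Pw.coeff 0 * Pw.coeff (2 * D - j)) :
    ∃ h : P, X 0 ^ D * h - Polynomial.aeval (X 0 : P) Pw ∈ Ideal.span {Qp (n : ℤ)} := by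
  have hn0 : (n : ℤ) ≠ 0 := by exact_mod_cast hn.ne'
  have hcj : ∀ j < D, Pw.coeff j = ε * (n : ℤ) ^ (D - j) * Pw.coeff (2 * D - j) := by
    intro j hj
    have h1 := hFE j (by omega)
    rw [hc0] at h1
    have h2 : (n : ℤ) ^ D = (n : ℤ) ^ (D - j) * (n : ℤ) ^ j := by
      rw [← pow_add, Nat.sub_add_cancel hj.le]
    rw [h2] at h1
    have h3 : (n : ℤ) ^ j ≠ 0 := pow_ne_zero j hn0
    apply mul_right_cancel₀ h3
    rw [h1]; ring
  refine ⟨∑ j ∈ Finset.range (D + 1), C (Pw.coeff (D + j)) * X 0 ^ j +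
      ∑ j ∈ Finset.range D, C (ε * Pw.coeff (2 * D - j)) * X 1 ^ (D - j), ?_⟩
  have e1 : Polynomial.aeval (X 0 : P) Pw =
      ∑ j ∈ Finset.range D, C (Pw.coeff j) * X 0 ^ j +
      ∑ j ∈ Finset.range (D + 1), C (Pw.coeff (D + j)) * X 0 ^ (D + j) := by
    rw [Polynomial.aeval_def, Polynomial.eval₂_eq_sum_range, hdeg]
    have : 2 * D + 1 = D + (D + 1) := by ring
    rw [this, Finset.sum_range_add]
    rfl
  have e2 : X 0 ^ D * (∑ j ∈ Finset.range (D + 1), C (Pw.coeff (D + j)) * X 0 ^ j +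
      ∑ j ∈ Finset.range D, C (ε * Pw.coeff (2 * D - j)) * X 1 ^ (D - j)) -
      Polynomial.aeval (X 0 : P) Pw =
      ∑ j ∈ Finset.range D, (C (ε * Pw.coeff (2 * D - j)) * X 0 ^ j) *
        ((X 0 * X 1) ^ (D - j) - (C (n : ℤ)) ^ (D - j)) := by
    rw [e1, mul_add, Finset.mul_sum, Finset.mul_sum]
    have e3 : ∑ j ∈ Finset.range (D + 1), X 0 ^ D * (C (Pw.coeff (D + j)) * X 0 ^ j) =
        ∑ j ∈ Finset.range (D + 1), C (Pw.coeff (D + j)) * (X 0 : P) ^ (D + j) :=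
      Finset.sum_congr rfl fun j _ => by rw [pow_add]; ring
    rw [e3]
    have e4 : ∀ a b c : P, a + b - (c + a) = b - c := fun a b c => by ring
    rw [e4, ← Finset.sum_sub_distrib]
    refine Finset.sum_congr rfl fun j hj => ?_
    have hj' : j < D := Finset.mem_range.mp hj
    have e5 : (X 0 : P) ^ D = X 0 ^ j * X 0 ^ (D - j) := by
      rw [← pow_add, Nat.add_sub_cancel' hj'.le]
    rw [hcj j hj', e5, mul_pow]
    simp only [map_mul, map_pow]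
    ring
  rw [e2]
  refine Ideal.sum_mem _ fun j _ => ?_
  refine Ideal.mul_mem_left _ _ ?_
  obtain ⟨w, hw⟩ := sub_dvd_pow_sub_pow (X 0 * X 1 : P) (C (n : ℤ)) (D - j)
  rw [hw]
  exact Ideal.mul_mem_right _ _ (Ideal.subset_span rfl)

end Groth.Agent.Lib.Helper1.WeilCI
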