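import Groth.Agent.Lib.Helper1.WeilCI.Reg

/-!
# `F` is regular modulo `(Q, h)`; `(Q, h)` is a regular sequence (S17984)
-/

set_option autoImplicit false

open MvPolynomial

namespace Groth.Agent.Lib.Helper1.WeilCI

section

variable (n : ℕ) [NeZero n] (D : ℕ) (Pw : Polynomial ℤ)
  (hdeg : Pw.natDegree = 2 * D)
  (hc0 : Pw.coeff 0 = (n : ℤ) ^ D ∨ Pw.coeff 0 = - (n : ℤ) ^ D)
  (h : P)
  (hh : X 0 ^ D * h - Polynomial.aeval (X 0 : P) Pw ∈ Ideal.span {Qp (n : ℤ)})

include hdeg hc0 hh in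
theorem X0_regular_mod {x : P} (hx : X 0 * x ∈ Ideal.span {Qp (n : ℤ), h}) :
    x ∈ Ideal.span {Qp (n : ℤ), h} := by
  have hn0 : ((n : ℤ)) ≠ 0 := by exact_mod_cast NeZero.ne n
  obtain ⟨a, b, hab⟩ := Ideal.mem_span_pair.mp hx
  set c : ℤ →+* ZMod n := Int.castRingHom (ZMod n) with hc
  have hcq : c (n : ℤ) = 0 := by
    rw [hc, eq_intCast, Int.cast_natCast, ZMod.natCast_self]
  have h1 : (ev0 h).map c * (ev0 b).map c = 0 := by
    have := congrArg (fun r => (ev0 r).map c) hab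
    simp only [map_add, map_mul, Qp, map_sub, ev0_X0, ev0_X1, ev0_C, zero_mul, zero_sub,
      Polynomial.map_add, Polynomial.map_mul, Polynomial.map_neg, Polynomial.map_C, hcq,
      map_zero, neg_zero, mul_zero, zero_add, Polynomial.map_zero] at this
    rw [mul_comm]; exact this
  have h2 : (ev0 b).map c = 0 := psi_regular n D Pw hdeg hc0 h hh _ h1
  obtain ⟨b₁, b₂, hb⟩ := exists_eq_of_map_ev0_eq_zero n h2
  have h3 : X 0 * (x - b₁ * h) = Qp (n : ℤ) * (a + b₂ * h) := by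
    rw [mul_sub, ← hab, hb]; ring
  obtain ⟨y', -, hy'⟩ := stepA hn0 h3
  refine Ideal.mem_span_pair.mpr ⟨y', b₁, ?_⟩
  have : x = (x - b₁ * h) + b₁ * h := by ring
  rw [this, hy']; ring

include hdeg hc0 hh in
theorem pow_regular_mod (N : ℕ) {x : P} (hx : X 0 ^ N * x ∈ Ideal.span {Qp (n : ℤ), h}) :
    x ∈ Ideal.span {Qp (n : ℤ), h} := by
  induction N with
  | zero => simpa using hx
  | succ N ih =>
    apply ih
    apply X0_regular_mod n D Pw hdeg hc0 h hh
    rw [← mul_assoc, ← pow_succ']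
    exact hx

include hh in
theorem weaklyRegular (hPw : Pw ≠ 0) :
    RingTheory.Sequence.IsWeaklyRegular P [Qp (n : ℤ), h] := by
  have hn0 : ((n : ℤ)) ≠ 0 := by exact_mod_cast NeZero.ne n
  have hQ0 : Qp (n : ℤ) ≠ 0 := by
    intro h0
    have := congrArg ev0 h0
    simp only [Qp, map_sub, map_mul, ev0_X0, ev0_X1, ev0_C, zero_mul, zero_sub, map_zero,
      neg_eq_zero] at this
    exact hn0 (Polynomial.C_eq_zero.mp this)
  rw [RingTheory.Sequence.isWeaklyRegular_cons_iff, RingTheory.Sequence.isWeaklyRegular_singleton_iff]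
  refine ⟨(IsRegular.of_ne_zero hQ0).isSMulRegular, ?_⟩
  rw [isSMulRegular_on_quot_iff_lsmul_comap_le]
  intro x hx
  rw [Submodule.mem_comap, LinearMap.lsmul_apply, Submodule.mem_smul_pointwise_iff_exists] at hx
  obtain ⟨s, -, hs⟩ := hx
  rw [Submodule.mem_smul_pointwise_iff_exists]
  -- h * x = Q * s
  have hjh : jF (n : ℤ) h ≠ 0 := by
    obtain ⟨k, hk⟩ := Ideal.mem_span_singleton'.mp hh
    have := congrArg (jF (n : ℤ)) hk
    rw [map_mul, jF_Q, mul_zero, map_sub, map_mul, map_pow, jF_X0, jF_aeval] at this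
    intro h0
    rw [h0, mul_zero, zero_sub, zero_eq_neg] at this
    exact hPw (α_inj (by rw [this, map_zero]))
  have hjx : jF (n : ℤ) x = 0 := by
    have := congrArg (jF (n : ℤ)) hs
    simp only [smul_eq_mul, map_mul, jF_Q, zero_mul] at this
    rcases mul_eq_zero.mp this.symm with h0 | h0
    · exact absurd h0 hjh
    · exact h0
  obtain ⟨y, hy⟩ := Ideal.mem_span_singleton'.mp (mem_span_Q_of_jF_eq_zero hn0 hjx)
  exact ⟨y, Submodule.mem_top, by rw [smul_eq_mul, mul_comm, hy]⟩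

end

end Groth.Agent.Lib.Helper1.WeilCI
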