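import Groth.Agent.Lib.Helper1.WeilCI.Emb

/-!
# `h(0,V)` is a nonzerodivisor modulo `q` (S17984)
-/

set_option autoImplicit false

open MvPolynomial

namespace Groth.Agent.Lib.Helper1.WeilCI

/-- `X^{2D} P(q/X)` as a polynomial. -/
noncomputable def Pstar (q : ℤ) (D : ℕ) (Pw : Polynomial ℤ) : Polynomial ℤ :=
  ∑ j ∈ Finset.range (2 * D + 1), Polynomial.C (Pw.coeff j * q ^ j) * Polynomial.X ^ (2 * D - j)

lemma α_Pstar (q : ℤ) (D : ℕ) (Pw : Polynomial ℤ) (hdeg : Pw.natDegree = 2 * D) :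
    α (Pstar q D Pw) = T ^ (2 * D) * Polynomial.eval₂ (Int.castRingHom L) ((q : L) / T) Pw := by
  rw [Polynomial.eval₂_eq_sum_range, hdeg, Finset.mul_sum, Pstar, map_sum]
  refine Finset.sum_congr rfl fun j hj => ?_
  have hj' : j ≤ 2 * D := Nat.lt_succ_iff.mp (Finset.mem_range.mp hj)
  rw [map_mul, α_intCast, map_pow]
  have hTj : T ^ j ≠ 0 := pow_ne_zero j T_ne_zero
  have e1 : T ^ (2 * D) = T ^ (2 * D - j) * T ^ j := by
    rw [← pow_add, Nat.sub_add_cancel hj']
  rw [e1, div_pow, eq_intCast, Int.cast_mul, Int.cast_pow]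
  field_simp

lemma coeff_Pstar_top (q : ℤ) (D : ℕ) (Pw : Polynomial ℤ) :
    (Pstar q D Pw).coeff (2 * D) = Pw.coeff 0 := by
  rw [Pstar, Polynomial.finsetSum_coeff]
  rw [Finset.sum_eq_single 0]
  · simp
  · intro j hj hj0
    have hj' : j ≤ 2 * D := Nat.lt_succ_iff.mp (Finset.mem_range.mp hj)
    rw [Polynomial.coeff_C_mul_X_pow, if_neg]
    omega
  · intro h0
    exact absurd (Finset.mem_range.mpr (Nat.succ_pos _)) h0

lemma natDegree_Pstar_le (q : ℤ) (D : ℕ) (Pw : Polynomial ℤ) :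
    (Pstar q D Pw).natDegree ≤ 2 * D := by
  rw [Pstar]
  refine Polynomial.natDegree_sum_le_of_forall_le _ _ fun j _ => ?_
  refine (Polynomial.natDegree_C_mul_X_pow_le _ _).trans ?_
  omega

/-- The key regularity statement. -/
theorem psi_regular (n : ℕ) [NeZero n] (D : ℕ) (Pw : Polynomial ℤ)
    (hdeg : Pw.natDegree = 2 * D)
    (hc0 : Pw.coeff 0 = (n : ℤ) ^ D ∨ Pw.coeff 0 = - (n : ℤ) ^ D)
    (h : P)
    (hh : X 0 ^ D * h - Polynomial.aeval (X 0 : P) Pw ∈ Ideal.span {Qp (n : ℤ)})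
    (y : Polynomial (ZMod n))
    (hy : (ev0 h).map (Int.castRingHom (ZMod n)) * y = 0) : y = 0 := by
  set q : ℤ := (n : ℤ) with hq
  have hq0 : q ≠ 0 := by
    rw [hq]; exact_mod_cast NeZero.ne n
  -- step 1: apply jV
  obtain ⟨k, hk⟩ := Ideal.mem_span_singleton'.mp hh
  have h1 : ((q : L) / T) ^ D * jV q h =
      Polynomial.eval₂ (Int.castRingHom L) ((q : L) / T) Pw := by
    have := congrArg (jV q) hk
    rw [map_mul, jV_Q, mul_zero, map_sub, map_mul, map_pow, jV_X0, jV_aeval] at this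
    exact (sub_eq_zero.mp this.symm)
  -- step 3
  have h3 : (q : L) ^ D * T ^ D * jV q h = α (Pstar q D Pw) := by
    rw [α_Pstar q D Pw hdeg, ← h1]
    have hTD : T ^ D ≠ 0 := pow_ne_zero D T_ne_zero
    rw [div_pow, two_mul, pow_add]
    field_simp
  -- step 4
  obtain ⟨M, w, hw⟩ := exists_jV q h
  set u : Polynomial ℤ := Polynomial.X ^ M * ev0 h + Polynomial.C q * w with hu
  have h4 : Polynomial.C (q ^ D) * (Polynomial.X ^ D * u) = Polynomial.X ^ M * Pstar q D Pw := by
    apply α_inj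
    rw [map_mul, map_mul, map_mul, α_intCast, ← h3, ← hw]
    simp only [map_pow, Int.cast_pow]
    ring
  set E : Polynomial ℤ := Polynomial.X ^ D * u with hE
  -- step 5
  have hqD : q ^ D ≠ 0 := pow_ne_zero D hq0
  have c_top : q ^ D * E.coeff (M + 2 * D) = Pw.coeff 0 := by
    have := congrArg (fun r => Polynomial.coeff r (M + 2 * D)) h4
    simp only [Polynomial.coeff_C_mul] at this
    rw [this, add_comm M, Polynomial.coeff_X_pow_mul, coeff_Pstar_top]
  have c_hi : ∀ i, M + 2 * D < i → E.coeff i = 0 := by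
    intro i hi
    have := congrArg (fun r => Polynomial.coeff r i) h4
    simp only [Polynomial.coeff_C_mul] at this
    have h0 : (Polynomial.X ^ M * Pstar q D Pw).coeff i = 0 := by
      apply Polynomial.coeff_eq_zero_of_natDegree_lt
      refine lt_of_le_of_lt (Polynomial.natDegree_mul_le) ?_
      have := natDegree_Pstar_le q D Pw
      have h2 : (Polynomial.X ^ M : Polynomial ℤ).natDegree ≤ M := Polynomial.natDegree_X_pow_le M
      omega
    rw [h0] at this
    rcases mul_eq_zero.mp this with h | h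
    · exact absurd h hqD
    · exact h
  obtain ⟨ε, hε, hεc⟩ : ∃ ε : ℤ, ε * ε = 1 ∧ E.coeff (M + 2 * D) = ε := by
    rcases hc0 with h0 | h0
    · refine ⟨1, by ring, ?_⟩
      rw [h0] at c_top
      exact mul_left_cancel₀ hqD (by rw [c_top, mul_one])
    · refine ⟨-1, by ring, ?_⟩
      rw [h0] at c_top
      exact mul_left_cancel₀ hqD (by rw [c_top]; ring)
  -- step 6
  set c : ℤ →+* ZMod n := Int.castRingHom (ZMod n) with hc
  have hcq : c q = 0 := by
    rw [hc, hq, eq_intCast, Int.cast_natCast, ZMod.natCast_self]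
  have hEbar : E.map c = Polynomial.X ^ (D + M) * (ev0 h).map c := by
    rw [hE, hu]
    simp only [Polynomial.map_mul, Polynomial.map_add, Polynomial.map_pow, Polynomial.map_X,
      Polynomial.map_C, hcq, map_zero, zero_mul, add_zero]
    ring
  have hmonic : (Polynomial.C (c ε) * E.map c).Monic := by
    apply Polynomial.monic_of_natDegree_le_of_coeff_eq_one (M + 2 * D)
    · rw [Polynomial.natDegree_le_iff_coeff_eq_zero]
      intro i hi
      rw [Polynomial.coeff_C_mul, Polynomial.coeff_map, c_hi i hi, map_zero, mul_zero]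
    · rw [Polynomial.coeff_C_mul, Polynomial.coeff_map, hεc, ← map_mul, hε, map_one]
  have hz : (Polynomial.C (c ε) * E.map c) * y = 0 := by
    rw [hEbar, mul_assoc, mul_assoc, hy, mul_zero, mul_zero]
  exact hmonic.isRegular.left
    (show (Polynomial.C (c ε) * E.map c) * y = (Polynomial.C (c ε) * E.map c) * 0 by
      rw [hz, mul_zero])

end Groth.Agent.Lib.Helper1.WeilCI
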